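import Cfsg.Agent.HeRecog.M8a.SB2Pow.Defs

/-! Generated: kernel checks. -/

set_option autoImplicit false
set_option maxRecDepth 100000
set_option Elab.async false

namespace Cfsg.Agent.HeRecog.M8a.SB2Pow

open Cfsg.Agent.CosetCert

theorem logAt40000 : allFrom (data.checkLog) 40000 2500 = true := by decide +kernel

theorem logAt42500 : allFrom (data.checkLog) 42500 2500 = true := by decide +kernel

theorem logAt45000 : allFrom (data.checkLog) 45000 2500 = true := by decide +kernel

theorem logAt47500 : allFrom (data.checkLog) 47500 2500 = true := by decide +kernel

theorem logAt50000 : allFrom (data.checkLog) 50000 2500 = true := by decide +kernel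

theorem logAt52500 : allFrom (data.checkLog) 52500 2500 = true := by decide +kernel

theorem logAt55000 : allFrom (data.checkLog) 55000 2500 = true := by decide +kernel

theorem logAt57500 : allFrom (data.checkLog) 57500 2500 = true := by decide +kernel


end Cfsg.Agent.HeRecog.M8a.SB2Pow
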