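import Cfsg.Agent.HeRecog.M8a.SB2Pow.Defs

/-! Generated: kernel checks. -/

set_option autoImplicit false
set_option maxRecDepth 100000
set_option Elab.async false

namespace Cfsg.Agent.HeRecog.M8a.SB2Pow

open Cfsg.Agent.CosetCert

theorem logAt80000 : allFrom (data.checkLog) 80000 2500 = true := by decide +kernel

theorem logAt82500 : allFrom (data.checkLog) 82500 2500 = true := by decide +kernel

theorem logAt85000 : allFrom (data.checkLog) 85000 2500 = true := by decide +kernel

theorem logAt87500 : allFrom (data.checkLog) 87500 2500 = true := by decide +kernel

theorem logAt90000 : allFrom (data.checkLog) 90000 2500 = true := by decide +kernel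

theorem logAt92500 : allFrom (data.checkLog) 92500 2500 = true := by decide +kernel

theorem logAt95000 : allFrom (data.checkLog) 95000 2500 = true := by decide +kernel

theorem logAt97500 : allFrom (data.checkLog) 97500 2500 = true := by decide +kernel


end Cfsg.Agent.HeRecog.M8a.SB2Pow
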