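import Cfsg.Agent.HeRecog.M8a.SB2Pow.Defs

/-! Generated: kernel checks. -/

set_option autoImplicit false
set_option maxRecDepth 100000
set_option Elab.async false

namespace Cfsg.Agent.HeRecog.M8a.SB2Pow

open Cfsg.Agent.CosetCert

theorem logAt100000 : allFrom (data.checkLog) 100000 2500 = true := by decide +kernel

theorem logAt102500 : allFrom (data.checkLog) 102500 2500 = true := by decide +kernel

theorem logAt105000 : allFrom (data.checkLog) 105000 2500 = true := by decide +kernel

theorem logAt107500 : allFrom (data.checkLog) 107500 60 = true := by decide +kernel


end Cfsg.Agent.HeRecog.M8a.SB2Pow
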