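import Cfsg.Agent.HeRecog.M8a.SB2Pow.Log0
import Cfsg.Agent.HeRecog.M8a.SB2Pow.Log1
import Cfsg.Agent.HeRecog.M8a.SB2Pow.Log2
import Cfsg.Agent.HeRecog.M8a.SB2Pow.Log3
import Cfsg.Agent.HeRecog.M8a.SB2Pow.Log4
import Cfsg.Agent.HeRecog.M8a.SB2Pow.Log5

/-! Generated: validity. -/

set_option autoImplicit false
set_option maxRecDepth 100000

namespace Cfsg.Agent.HeRecog.M8a.SB2Pow

open Cfsg.Agent.CosetCert

theorem log_ok : ∀ i, i < 107560 → data.checkLog i = true := by
  have h0 : ∀ i, i < 0 → data.checkLog i = true := forall_lt_zero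
  have h1 := forall_lt_step (b := 2500) h0 logAt0 rfl
  have h2 := forall_lt_step (b := 5000) h1 logAt2500 rfl
  have h3 := forall_lt_step (b := 7500) h2 logAt5000 rfl
  have h4 := forall_lt_step (b := 10000) h3 logAt7500 rfl
  have h5 := forall_lt_step (b := 12500) h4 logAt10000 rfl
  have h6 := forall_lt_step (b := 15000) h5 logAt12500 rfl
  have h7 := forall_lt_step (b := 17500) h6 logAt15000 rfl
  have h8 := forall_lt_step (b := 20000) h7 logAt17500 rfl
  have h9 := forall_lt_step (b := 22500) h8 logAt20000 rfl
  have h10 := forall_lt_step (b := 25000) h9 logAt22500 rfl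
  have h11 := forall_lt_step (b := 27500) h10 logAt25000 rfl
  have h12 := forall_lt_step (b := 30000) h11 logAt27500 rfl
  have h13 := forall_lt_step (b := 32500) h12 logAt30000 rfl
  have h14 := forall_lt_step (b := 35000) h13 logAt32500 rfl
  have h15 := forall_lt_step (b := 37500) h14 logAt35000 rfl
  have h16 := forall_lt_step (b := 40000) h15 logAt37500 rfl
  have h17 := forall_lt_step (b := 42500) h16 logAt40000 rfl
  have h18 := forall_lt_step (b := 45000) h17 logAt42500 rfl
  have h19 := forall_lt_step (b := 47500) h18 logAt45000 rfl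
  have h20 := forall_lt_step (b := 50000) h19 logAt47500 rfl
  have h21 := forall_lt_step (b := 52500) h20 logAt50000 rfl
  have h22 := forall_lt_step (b := 55000) h21 logAt52500 rfl
  have h23 := forall_lt_step (b := 57500) h22 logAt55000 rfl
  have h24 := forall_lt_step (b := 60000) h23 logAt57500 rfl
  have h25 := forall_lt_step (b := 62500) h24 logAt60000 rfl
  have h26 := forall_lt_step (b := 65000) h25 logAt62500 rfl
  have h27 := forall_lt_step (b := 67500) h26 logAt65000 rfl
  have h28 := forall_lt_step (b := 70000) h27 logAt67500 rfl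
  have h29 := forall_lt_step (b := 72500) h28 logAt70000 rfl
  have h30 := forall_lt_step (b := 75000) h29 logAt72500 rfl
  have h31 := forall_lt_step (b := 77500) h30 logAt75000 rfl
  have h32 := forall_lt_step (b := 80000) h31 logAt77500 rfl
  have h33 := forall_lt_step (b := 82500) h32 logAt80000 rfl
  have h34 := forall_lt_step (b := 85000) h33 logAt82500 rfl
  have h35 := forall_lt_step (b := 87500) h34 logAt85000 rfl
  have h36 := forall_lt_step (b := 90000) h35 logAt87500 rfl
  have h37 := forall_lt_step (b := 92500) h36 logAt90000 rfl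
  have h38 := forall_lt_step (b := 95000) h37 logAt92500 rfl
  have h39 := forall_lt_step (b := 97500) h38 logAt95000 rfl
  have h40 := forall_lt_step (b := 100000) h39 logAt97500 rfl
  have h41 := forall_lt_step (b := 102500) h40 logAt100000 rfl
  have h42 := forall_lt_step (b := 105000) h41 logAt102500 rfl
  have h43 := forall_lt_step (b := 107500) h42 logAt105000 rfl
  have h44 := forall_lt_step (b := 107560) h43 logAt107500 rfl
  exact h44

theorem mem_valid : data.MemValid where
  log := log_ok
  iv_iv := by
    have h : ∀ x : Fin 19, ivL (ivL x) = x ∧ ivL x < 19 := by decide +kernel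
    exact fun x hx => h ⟨x, hx⟩
  iv_big := fun x hx => by
    have h : Nat.blt x 19 = false := eq_false_of_ne_true fun e => absurd (Nat.ble_eq.mp e) (Nat.not_lt.2 hx)
    show ivL x = x
    simp [ivL, h]
  pw := by
    have h : ∀ k : Fin 131, data.PW k = pack (data.W.getD k []) := by decide +kernel
    exact fun k hk => h ⟨k, hk⟩
  letters := by decide +kernel
  K_small := by decide +kernel
  nR_le := by decide +kernel

theorem fits : Fits data Cfsg.Agent.HeRecog.M8a.SB2.RS (Cfsg.Agent.HeRecog.M8a.SB2.SS.map SubSpec.word) where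
  K := rfl
  iv := rfl
  invol := by decide +kernel
  take := by decide +kernel
  drop := by decide +kernel

theorem walk_ok : walk data.F data.iv data.K data.Nf 69 0xbdb802f8d0110e004a3481117a04c9a0164d405ff68345b2094d8c245990ca7e006695093b1033d1801b97427eee0d1f8827c240d21203484a0623681650d0ac63c036c705acfc32f0009c3e0272460d21382a3510cdcb023406012718345160a93c82a76b0a3454327c00a3f703484c01733c222660c915005deb08fce0227e20c8c0027eb60c85c82681a073ea81ba5c0cd3702328c08630032b56064b3c176e60d20f820ac2011698113ce0458d00009e02fa500bdce02f6300bd7c 0 (pack (((List.replicate 23 Cfsg.Agent.HeRecog.M8a.SB2.word).flatten.map Letters.dec14).map (Data.code data.iv encL))) = stop 0 0 := by decide +kernel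

end Cfsg.Agent.HeRecog.M8a.SB2Pow
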